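import Cfsg.Agent.Lib.Fischer.Relations.Thirteen.Seen
import Cfsg.Agent.Lib.Fischer.Relations.TwentyNine.Counting

/-!
# The normalizer of a subgroup of order thirteen and its six fixed members in type M(24)
-/

set_option autoImplicit false
set_option linter.unusedSectionVars false

namespace Cfsg.Lib.Fischer.Relations.Thirteen

open Cfsg Cfsg.Lib.Fischer Equiv

universe u

variable {G : Type u} [Group G] [Finite G] {D : Set G}

/-- Two commuting pairs of noncommuting members. -/
structure Quad (D : Set G) (a b c d : G) : Prop where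
  ha : a ∈ D
  hb : b ∈ D
  hc : c ∈ D
  hd : d ∈ D
  nad : ¬ Commute a d
  nbc : ¬ Commute b c
  ab : Commute a b
  ac : Commute a c
  db : Commute d b
  dc : Commute d c

/-- The six members. -/
def six (a b c d : G) : Set G := {x | x ∈ [a, d, cj a d, b, c, cj b c]}

/-- An orbit of length two, by conjugation. -/
theorem orbit_card {H : Subgroup G} {O : Set G} {x : G} {n m : ℕ} (hn : O.ncard = n) (hx : x ∈ O)
    (hst : ∀ k ∈ H, ∀ y ∈ O, k * y * k⁻¹ ∈ O) (htr : ∀ y ∈ O, ∃ k ∈ H, k * x * k⁻¹ = y)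
    (hm : Nat.card ↥(H ⊓ Subgroup.centralizer ({x} : Set G)) = m) : Nat.card H = n * m := by
  rw [card_conj_orbit hx hst htr, Nat.card_coe_set_eq, hn, hm]

variable {d₀ : G} (K : M24Data D d₀)
include K

theorem quad_facts {a b c d : G} (q : Quad D a b c d) :
    (six a b c d).ncard = 6 ∧ (∀ x ∈ six a b c d, x ∈ D) ∧
      Subgroup.closure (six a b c d) = Subgroup.closure ({a, b, c, d} : Set G) := by
  classical
  have hT := K.trans
  obtain ⟨ha, hb, hc, hd, nad, nbc, ab, ac, db, dc⟩ := q
  have hA : cj a d ∈ D := cj_mem hT ha hd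
  have hB : cj b c ∈ D := cj_mem hT hb hc
  have nAa : ¬ Commute (cj a d) a := fun h => nad (by
    have := (Commute.conj_iff a).2 h.symm
    rwa [cj_conj hT ha, show a * a * a⁻¹ = a by group,
      show a * (a * d * a⁻¹) * a⁻¹ = (a * a) * d * (a * a)⁻¹ by group, mul_self hT ha, one_mul, inv_one, mul_one] at this)
  have nBb : ¬ Commute (cj b c) b := fun h => nbc (by
    have := (Commute.conj_iff b).2 h.symm
    rwa [cj_conj hT hb, show b * b * b⁻¹ = b by group,
      show b * (b * c * b⁻¹) * b⁻¹ = (b * b) * c * (b * b)⁻¹ by group, mul_self hT hb, one_mul, inv_one, mul_one] at this)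
  have aB : Commute a (cj b c) := (ab.mul_right ac).mul_right ab
  have dB : Commute d (cj b c) := (db.mul_right dc).mul_right db
  refine ⟨?_, ?_, ?_⟩
  · have hnd : [a, d, cj a d, b, c, cj b c].Nodup := by
      simp only [List.nodup_cons, List.mem_cons, List.not_mem_nil, or_false, not_or, List.nodup_nil, and_true]
      refine ⟨⟨fun e => nad (e ▸ Commute.refl a), fun e => nAa (e ▸ Commute.refl a), fun e => nad (e ▸ db.symm),
          fun e => nad (e ▸ dc.symm), fun e => nad (e ▸ dB.symm)⟩,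
        ⟨fun e => nad ?_, fun e => nad (e ▸ ab), fun e => nad (e ▸ ac), fun e => nad (e ▸ aB)⟩,
        ⟨fun e => nAa (e ▸ ab.symm), fun e => nAa (e ▸ ac.symm), fun e => nAa (e ▸ aB.symm)⟩,
        ⟨fun e => nbc (e ▸ Commute.refl b), fun e => nBb (e ▸ Commute.refl b)⟩,
        ⟨fun e => nbc ?_, not_false⟩⟩
      · exact (cj_eq_self hT ha).1 e.symm
      · exact (cj_eq_self hT hb).1 e.symm
    rw [six, show {x | x ∈ [a, d, cj a d, b, c, cj b c]} = ([a, d, cj a d, b, c, cj b c].toFinset : Set G) by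
      ext x; simp, Set.ncard_coe_finset, List.toFinset_card_of_nodup hnd]
    rfl
  · intro x hx
    simp only [six, Set.mem_setOf_eq, List.mem_cons, List.not_mem_nil, or_false] at hx
    rcases hx with rfl | rfl | rfl | rfl | rfl | rfl <;> assumption
  · refine le_antisymm ((Subgroup.closure_le _).2 fun x hx => ?_) (Subgroup.closure_mono fun x hx => ?_)
    · have hin : ∀ {y}, y ∈ ({a, b, c, d} : Set G) → y ∈ Subgroup.closure ({a, b, c, d} : Set G) :=
        fun h => Subgroup.subset_closure h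
      simp only [six, Set.mem_setOf_eq, List.mem_cons, List.not_mem_nil, or_false] at hx
      rcases hx with rfl | rfl | rfl | rfl | rfl | rfl
      · exact hin (by simp)
      · exact hin (by simp)
      · exact mul_mem (mul_mem (hin (by simp)) (hin (by simp))) (hin (by simp))
      · exact hin (by simp)
      · exact hin (by simp)
      · exact mul_mem (mul_mem (hin (by simp)) (hin (by simp))) (hin (by simp))
    · simp only [Set.mem_insert_iff, Set.mem_singleton_iff] at hx
      rcases hx with rfl | rfl | rfl | rfl <;> simp [six]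

variable {a b c d : G} (q : Quad D a b c d) {B : Subgroup G} (hB : Nat.card B = 13)
  (hBK : B ≤ Subgroup.centralizer ((Subgroup.closure ({a, b, c, d} : Set G) : Subgroup G) : Set G))
include q hB hBK

/-- The fixed members are the six. -/
theorem fixed_eq : D ∩ (Subgroup.centralizer (B : Set G) : Set G) = six a b c d := by
  obtain ⟨h6, hD, hcl⟩ := quad_facts K q
  have hfix : ∀ x ∈ six a b c d, ∀ y ∈ B, Commute y x := fun x hx y hy =>
    (Subgroup.mem_centralizer_iff.1 (hBK hy) x (by rw [SetLike.mem_coe, ← hcl]; exact Subgroup.subset_closure hx)).symm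
  obtain ⟨hn, -, -⟩ := six_fixed K hB q.ha (hfix a (by simp [six]))
  exact (Set.eq_of_subset_of_ncard_le (fun x hx => FixSet.mem_fixed.2 ⟨hD x hx, hfix x hx⟩) (by rw [h6, hn])).symm

/-- The normalizer of `B` normalizes the centralizer of the quad. -/
theorem normalizer_le : Subgroup.normalizer (B : Set G) ≤ Subgroup.normalizer
    (Subgroup.centralizer ((Subgroup.closure ({a, b, c, d} : Set G) : Subgroup G) : Set G) : Set G) := by
  intro g hg
  obtain ⟨h6, hD, hcl⟩ := quad_facts K q
  refine TwentyNine.normalizer_centralizer (FixSet.mem_normalizer_of_map (Subgroup.eq_of_le_of_card_ge ?_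
    (Subgroup.card_map_of_injective (MulAut.conj g).injective).ge))
  rw [← hcl, MonoidHom.map_closure]
  refine Subgroup.closure_mono ?_
  rintro _ ⟨x, hx, rfl⟩
  rw [← fixed_eq K q hB hBK] at hx ⊢
  exact FixSet.fixed_stable (fun u hu => K.trans.conj g u hu) hg hx

/-- Inside the normalizer, the stabilizer of `a` has index twelve over the kernel. -/
theorem stabilizer_chain {H : Subgroup G} (hH : H ≤ Subgroup.normalizer (B : Set G))
    (hT : Subgroup.closure ({a, b, c, d} : Set G) ≤ H) {m : ℕ}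
    (hm : Nat.card ↥(H ⊓ Subgroup.centralizer ({a} : Set G)) = m) :
    12 * Nat.card ↥(H ⊓ Subgroup.centralizer ((Subgroup.closure ({a, b, c, d} : Set G) : Subgroup G) : Set G)) = m := by
  classical
  have hTr := K.trans
  obtain ⟨h6, hD, hcl⟩ := quad_facts K q
  obtain ⟨ha, hb, hc, hd, nad, nbc, ab, ac, db, dc⟩ := q
  have q' : Quad D a b c d := ⟨ha, hb, hc, hd, nad, nbc, ab, ac, db, dc⟩
  obtain ⟨S, hS⟩ : ∃ S, S = six a b c d := ⟨_, rfl⟩
  have hmemS : ∀ x, x ∈ S ↔ x = a ∨ x = d ∨ x = cj a d ∨ x = b ∨ x = c ∨ x = cj b c := fun x => by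
    simp [hS, six]
  have hstS : ∀ k ∈ H, ∀ x ∈ S, k * x * k⁻¹ ∈ S := fun k hk x hx => by
    rw [hS, ← fixed_eq K q' hB hBK] at hx ⊢
    exact FixSet.fixed_stable (fun u hu => hTr.conj k u hu) (hH hk) hx
  have hin : ∀ {x}, x ∈ ({a, b, c, d} : Set G) → x ∈ H := fun h => hT (Subgroup.subset_closure h)
  have aB : Commute a (cj b c) := (ab.mul_right ac).mul_right ab
  have dB : Commute d (cj b c) := (db.mul_right dc).mul_right db
  have nAa : ¬ Commute (cj a d) a := fun h => nad (by
    have := (Commute.conj_iff a).2 h.symm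
    rwa [cj_conj hTr ha, show a * a * a⁻¹ = a by group,
      show a * (a * d * a⁻¹) * a⁻¹ = (a * a) * d * (a * a)⁻¹ by group, mul_self hTr ha, one_mul, inv_one, mul_one] at this)
  have nBb : ¬ Commute (cj b c) b := fun h => nbc (by
    have := (Commute.conj_iff b).2 h.symm
    rwa [cj_conj hTr hb, show b * b * b⁻¹ = b by group,
      show b * (b * c * b⁻¹) * b⁻¹ = (b * b) * c * (b * b)⁻¹ by group, mul_self hTr hb, one_mul, inv_one, mul_one] at this)
  have mem : ∀ {k x : G}, k ∈ Subgroup.centralizer ({x} : Set G) ↔ Commute k x := fun {k x} =>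
    Subgroup.mem_centralizer_singleton_iff
  obtain ⟨H₁, hH₁⟩ : ∃ H₁, H₁ = H ⊓ Subgroup.centralizer ({a} : Set G) := ⟨_, rfl⟩
  obtain ⟨H₂, hH₂⟩ : ∃ H₂, H₂ = H₁ ⊓ Subgroup.centralizer ({d} : Set G) := ⟨_, rfl⟩
  obtain ⟨H₃, hH₃⟩ : ∃ H₃, H₃ = H₂ ⊓ Subgroup.centralizer ({b} : Set G) := ⟨_, rfl⟩
  have hfixA : ∀ k ∈ H₂, Commute k a ∧ Commute k d ∧ Commute k (cj a d) ∧ k ∈ H := fun k hk => by
    rw [hH₂, hH₁] at hk
    have h1 := mem.1 hk.1.2
    have h2 := mem.1 hk.2
    exact ⟨h1, h2, (h1.mul_right h2).mul_right h1, hk.1.1⟩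
  -- the partner of `a`
  have e1 : Nat.card H₁ = 2 * Nat.card H₂ := by
    refine orbit_card (O := {d, cj a d}) (x := d)
      (Set.ncard_pair fun e => nad ((cj_eq_self hTr ha).1 e.symm)) (by simp) ?_ ?_ (hH₂ ▸ rfl)
    · intro k hk x hx
      rw [hH₁] at hk
      have hka := mem.1 hk.2
      have hxS : x ∈ S := (hmemS x).2 (by rcases hx with rfl | rfl <;> simp)
      have hxn : ¬ Commute x a := by
        rcases hx with rfl | rfl
        · exact fun h => nad h.symm
        · exact nAa
      have hn : ¬ Commute (k * x * k⁻¹) a := fun h => hxn ((Commute.conj_iff k).1 (by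
        rwa [show k * a * k⁻¹ = a by rw [hka.eq, mul_inv_cancel_right]]))
      rcases (hmemS _).1 (hstS k hk.1 x hxS) with e | e | e | e | e | e
      · exact absurd (e ▸ Commute.refl a) hn
      · exact Or.inl e
      · exact Or.inr e
      · exact absurd (e ▸ ab.symm) hn
      · exact absurd (e ▸ ac.symm) hn
      · exact absurd (e ▸ aB.symm) hn
    · rintro y (rfl | rfl)
      · exact ⟨1, one_mem _, by group⟩
      · exact ⟨a, hH₁ ▸ ⟨hin (by simp), mem.2 (Commute.refl a)⟩, (cj_conj hTr ha d).symm⟩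
  -- the second triangle
  have e2 : Nat.card H₂ = 3 * Nat.card H₃ := by
    refine orbit_card (O := {b, c, cj b c}) (x := b) ?_ (by simp) ?_ ?_ (hH₃ ▸ rfl)
    · rw [Set.ncard_insert_of_notMem, Set.ncard_pair]
      · exact fun e => nbc ((cj_eq_self hTr hb).1 e.symm)
      · simp only [Set.mem_insert_iff, Set.mem_singleton_iff, not_or]
        exact ⟨fun e => nbc (e ▸ Commute.refl b), fun e => nBb (e ▸ Commute.refl b)⟩
    · intro k hk x hx
      obtain ⟨h1, h2, h3, hkH⟩ := hfixA k hk
      have hxS : x ∈ S := (hmemS x).2 (by rcases hx with rfl | rfl | rfl <;> simp)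
      have hxa : Commute x a ∧ Commute x d := by
        rcases hx with rfl | rfl | rfl
        exacts [⟨ab.symm, db.symm⟩, ⟨ac.symm, dc.symm⟩, ⟨aB.symm, dB.symm⟩]
      have ka : Commute (k * x * k⁻¹) a := by
        have := (Commute.conj_iff k).2 hxa.1
        rwa [show k * a * k⁻¹ = a by rw [h1.eq, mul_inv_cancel_right]] at this
      have kd : Commute (k * x * k⁻¹) d := by
        have := (Commute.conj_iff k).2 hxa.2
        rwa [show k * d * k⁻¹ = d by rw [h2.eq, mul_inv_cancel_right]] at this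
      rcases (hmemS _).1 (hstS k hkH x hxS) with e | e | e | e | e | e
      · exact absurd (e ▸ kd : Commute a d) nad
      · exact absurd (e ▸ ka : Commute d a) (fun h => nad h.symm)
      · exact absurd (e ▸ ka : Commute (cj a d) a) nAa
      · exact Or.inl e
      · exact Or.inr (Or.inl e)
      · exact Or.inr (Or.inr e)
    · have hbH : b ∈ H₂ := by
        rw [hH₂, hH₁]; exact ⟨⟨hin (by simp), mem.2 ab.symm⟩, mem.2 db.symm⟩
      have hcH : c ∈ H₂ := by
        rw [hH₂, hH₁]; exact ⟨⟨hin (by simp), mem.2 ac.symm⟩, mem.2 dc.symm⟩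
      have hbr : cj c b = cj b c := braid hTr hc hb fun h => nbc h.symm
      rintro y (e | e | e) <;> rw [e]
      · exact ⟨1, one_mem _, by group⟩
      · refine ⟨b * c, mul_mem hbH hcH, ?_⟩
        rw [show b * c * b * (b * c)⁻¹ = b * (c * b * c⁻¹) * b⁻¹ by group, ← cj_conj hTr hc, hbr, ← cj_conj hTr hb,
          cj_cj hTr hb]
      · exact ⟨c, hcH, by rw [← cj_conj hTr hc, hbr]⟩
  -- the last swap
  have e3 : Nat.card H₃ = 2 * Nat.card ↥(H₃ ⊓ Subgroup.centralizer ({c} : Set G)) := by
    refine orbit_card (O := {c, cj b c}) (x := c)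
      (Set.ncard_pair fun e => nbc ((cj_eq_self hTr hb).1 e.symm)) (by simp) ?_ ?_ rfl
    · intro k hk x hx
      rw [hH₃] at hk
      have hkb := mem.1 hk.2
      obtain ⟨h1, h2, h3, hkH⟩ := hfixA k hk.1
      have hxS : x ∈ S := (hmemS x).2 (by rcases hx with rfl | rfl <;> simp)
      have hxn : ¬ Commute x b := by
        rcases hx with rfl | rfl
        · exact fun h => nbc h.symm
        · exact nBb
      have hn : ¬ Commute (k * x * k⁻¹) b := fun h => hxn ((Commute.conj_iff k).1 (by
        rwa [show k * b * k⁻¹ = b by rw [hkb.eq, mul_inv_cancel_right]]))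
      rcases (hmemS _).1 (hstS k hkH x hxS) with e | e | e | e | e | e
      · exact absurd (e ▸ ab) hn
      · exact absurd (e ▸ db) hn
      · exact absurd (e ▸ (((ab.mul_left db).mul_left ab) : Commute (a * d * a) b)) hn
      · exact absurd (e ▸ Commute.refl b) hn
      · exact Or.inl e
      · exact Or.inr e
    · rintro y (rfl | rfl)
      · exact ⟨1, one_mem _, by group⟩
      · refine ⟨b, ?_, (cj_conj hTr hb c).symm⟩
        rw [hH₃, hH₂, hH₁]
        exact ⟨⟨⟨hin (by simp), mem.2 ab.symm⟩, mem.2 db.symm⟩, mem.2 (Commute.refl b)⟩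
  have e4 : H₃ ⊓ Subgroup.centralizer ({c} : Set G) =
      H ⊓ Subgroup.centralizer ((Subgroup.closure ({a, b, c, d} : Set G) : Subgroup G) : Set G) := by
    rw [Subgroup.centralizer_closure, hH₃, hH₂, hH₁]
    ext k
    simp only [Subgroup.mem_inf, Subgroup.mem_centralizer_iff, Set.mem_singleton_iff, forall_eq,
      Set.mem_insert_iff, forall_eq_or_imp]
    tauto
  rw [← hm, ← hH₁, e1, e2, e3, e4]
  ring

/-- The orders around the quad. -/
theorem quad_orders :
    Nat.card ↥(Subgroup.centralizer ((Subgroup.closure ({a, b, c, d} : Set G) : Subgroup G) : Set G) ⊓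
        Subgroup.normalizer (B : Set G)) = 78 ∧
      Subgroup.centralizer ((Subgroup.closure ({a, b, c, d} : Set G) : Subgroup G) : Set G) ⊓
        Subgroup.centralizer (B : Set G) = B ∧
      (((Subgroup.centralizer ((Subgroup.closure ({a, b, c, d} : Set G) : Subgroup G) : Set G) ⊓
        Subgroup.normalizer (B : Set G)) ⊔ Subgroup.closure ({a, b, c, d} : Set G)).subgroupOf
        (Subgroup.normalizer (B : Set G))).index = 2 := by
  classical
  have hTr := K.trans
  obtain ⟨h6, hD, hcl⟩ := quad_facts K q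
  have hfixed := fixed_eq K q hB hBK
  obtain ⟨T, hT⟩ : ∃ T, T = Subgroup.closure ({a, b, c, d} : Set G) := ⟨_, rfl⟩
  rw [← hT] at hBK
  have hTC : T ≤ Subgroup.centralizer (B : Set G) := Subgroup.le_centralizer_iff.1 hBK
  have hTN : T ≤ Subgroup.normalizer (B : Set G) := hTC.trans (Subgroup.centralizer_le_normalizer _)
  have haS : a ∈ six a b c d := by simp [six]
  have haB : ∀ x ∈ B, Commute x a := fun x hx => (FixSet.mem_fixed.1 (hfixed ▸ haS :
    a ∈ D ∩ (Subgroup.centralizer (B : Set G) : Set G))).2 x hx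
  obtain ⟨-, hNa, hCa⟩ := six_fixed K hB q.ha haB
  have hBK' : B ≤ Subgroup.centralizer ((Subgroup.closure ({a, b, c, d} : Set G) : Subgroup G) : Set G) := hT ▸ hBK
  have k1 := stabilizer_chain K q hB hBK' (le_refl _) (hT ▸ hTN) hNa
  have k2 := stabilizer_chain K q hB hBK' (Subgroup.centralizer_le_normalizer _) (hT ▸ hTC) hCa
  rw [← hT] at k1 k2 ⊢
  obtain ⟨F, hF⟩ : ∃ F, F = Subgroup.centralizer (T : Set G) ⊓ Subgroup.normalizer (B : Set G) := ⟨_, rfl⟩
  have hFc : Nat.card F = 78 := by rw [hF, inf_comm]; omega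
  have hBB : B ≤ Subgroup.centralizer (B : Set G) := by
    have : Fact (Nat.Prime 13) := ⟨by norm_num⟩
    have : IsCyclic B := isCyclic_of_prime_card hB
    intro x hx
    refine Subgroup.mem_centralizer_iff.2 fun y hy => ?_
    obtain ⟨g, hg⟩ := IsCyclic.exists_generator (α := ↥B)
    obtain ⟨i, hi⟩ := Subgroup.mem_zpowers_iff.1 (hg ⟨y, hy⟩)
    obtain ⟨j, hj⟩ := Subgroup.mem_zpowers_iff.1 (hg ⟨x, hx⟩)
    exact congrArg Subtype.val (show (⟨y, hy⟩ * ⟨x, hx⟩ : ↥B) = ⟨x, hx⟩ * ⟨y, hy⟩ by
      rw [← hi, ← hj, ← zpow_add, ← zpow_add, add_comm])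
  refine ⟨hF ▸ hFc, (Subgroup.eq_of_le_of_card_ge (le_inf hBK hBB) (by rw [inf_comm, hB]; omega)).symm, ?_⟩
  rw [← hF]
  obtain ⟨H, hH⟩ : ∃ H, H = F ⊔ T := ⟨_, rfl⟩
  rw [← hH]
  have hHN : H ≤ Subgroup.normalizer (B : Set G) := hH ▸ sup_le (hF ▸ inf_le_right) hTN
  have hTH : T ≤ H := hH ▸ le_sup_right
  have hFH : F ≤ H := hH ▸ le_sup_left
  -- the stabilizer of `a`
  have hHa : Nat.card ↥(H ⊓ Subgroup.centralizer ({a} : Set G)) = 936 := by
    have k3 := stabilizer_chain K q hB hBK' hHN (hT ▸ hTH) rfl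
    rw [← hT, show H ⊓ Subgroup.centralizer (T : Set G) = F from le_antisymm
      (fun x hx => hF ▸ ⟨hx.2, hHN hx.1⟩) (fun x hx => ⟨hFH hx, ((SetLike.ext_iff.1 hF x).1 hx).1⟩), hFc] at k3
    omega
  -- the orbit is one triangle
  obtain ⟨ha, hb, hc, hd, nad, nbc, ab, ac, db, dc⟩ := q
  have hin : ∀ {x}, x ∈ ({a, b, c, d} : Set G) → x ∈ T := fun h => hT ▸ Subgroup.subset_closure h
  have hbr : cj d a = cj a d := braid hTr hd ha fun h => nad h.symm
  have hgen : ∀ k ∈ H, ∀ x ∈ ({a, d, cj a d} : Set G), k * x * k⁻¹ ∈ ({a, d, cj a d} : Set G) := by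
    intro k hk
    rw [hH] at hk
    have hset : k ∈ Subgroup.normalizer ({a, d, cj a d} : Set G) := by
      refine (sup_le ?_ ?_ : F ⊔ T ≤ _) hk
      · intro f hf
        rw [hF] at hf
        have hfix : ∀ x ∈ ({a, d, cj a d} : Set G), f * x * f⁻¹ = x := fun x hx => by
          have hxT : x ∈ T := by
            rcases hx with rfl | rfl | rfl
            · exact hin (by simp)
            · exact hin (by simp)
            · exact mul_mem (mul_mem (hin (by simp)) (hin (by simp))) (hin (by simp))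
          rw [← (Subgroup.mem_centralizer_iff.1 hf.1 x hxT), mul_inv_cancel_right]
        refine Subgroup.mem_set_normalizer_iff.2 fun x => ⟨fun hx => (hfix x hx).symm ▸ hx, fun hx => ?_⟩
        have h' := hfix _ hx
        have : f * x * f⁻¹ = x := by
          have h2 := congrArg (fun z => f⁻¹ * z * f) h'
          simpa [mul_assoc] using h2
        exact this ▸ hx
      · rw [hT, Subgroup.closure_le]
        intro t ht
        have htD : t ∈ D := by
          rcases ht with rfl | rfl | rfl | rfl <;> assumption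
        have hmaps : ∀ x ∈ ({a, d, cj a d} : Set G), cj t x ∈ ({a, d, cj a d} : Set G) := by
          rintro x (e | e | e) <;> rcases ht with f | f | f | f <;> rw [e, f]
          · simp [cj_self hTr ha]
          · simp [cj_of_commute hTr hb ab.symm]
          · simp [cj_of_commute hTr hc ac.symm]
          · simp [hbr]
          · simp
          · simp [cj_of_commute hTr hb db.symm]
          · simp [cj_of_commute hTr hc dc.symm]
          · simp [cj_self hTr hd]
          · simp [cj_cj hTr ha]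
          · exact Or.inr (Or.inr (cj_of_commute hTr hb ((ab.symm.mul_right db.symm).mul_right ab.symm)))
          · exact Or.inr (Or.inr (cj_of_commute hTr hc ((ac.symm.mul_right dc.symm).mul_right ac.symm)))
          · rw [← hbr, cj_cj hTr hd]; simp
        refine Subgroup.mem_set_normalizer_iff.2 fun x => ⟨fun hx => cj_conj hTr htD x ▸ hmaps x hx, fun hx => ?_⟩
        have := hmaps _ hx
        rwa [← cj_conj hTr htD, cj_cj hTr htD] at this
    exact fun x hx => (Subgroup.mem_set_normalizer_iff.1 hset x).1 hx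
  have hcard : Nat.card H = 3 * 936 := by
    refine orbit_card (O := ({a, d, cj a d} : Set G)) (x := a) ?_ (by simp) hgen ?_ hHa
    · rw [Set.ncard_insert_of_notMem, Set.ncard_pair]
      · exact fun e => nad ((cj_eq_self hTr ha).1 e.symm)
      · simp only [Set.mem_insert_iff, Set.mem_singleton_iff, not_or]
        refine ⟨fun e => nad (e ▸ Commute.refl a), fun e => nad ?_⟩
        have h := congrArg (cj a) e
        rw [cj_self hTr ha, cj_cj hTr ha] at h
        exact h ▸ Commute.refl a
    · rintro y (e | e | e) <;> rw [e]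
      · exact ⟨1, one_mem _, by group⟩
      · refine ⟨a * d, hTH (mul_mem (hin (by simp)) (hin (by simp))), ?_⟩
        rw [show a * d * a * (a * d)⁻¹ = a * (d * a * d⁻¹) * a⁻¹ by group, ← cj_conj hTr hd, hbr, ← cj_conj hTr ha,
          cj_cj hTr ha]
      · exact ⟨d, hTH (hin (by simp)), by rw [← cj_conj hTr hd, hbr]⟩
  -- the whole normalizer
  have hNc : Nat.card ↥(Subgroup.normalizer (B : Set G)) = 6 * 936 := by
    refine orbit_card (O := six a b c d) (x := a) h6 haS ?_ ?_ hNa
    · intro k hk x hx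
      rw [← hfixed] at hx ⊢
      exact FixSet.fixed_stable (fun u hu => hTr.conj k u hu) hk hx
    · intro y hy
      rw [← hfixed] at hy
      obtain ⟨hyD, hyB⟩ := FixSet.mem_fixed.1 hy
      obtain ⟨g, hg⟩ := hTr.trans a ha y hyD
      obtain ⟨Cy, hCy⟩ : ∃ Cy, Cy = Subgroup.centralizer ({y} : Set G) := ⟨_, rfl⟩
      have hBy : B ≤ Cy := hCy ▸ fun x hx => Subgroup.mem_centralizer_singleton_iff.2 (hyB x hx).eq
      have hgy : B.map (MulAut.conj g).toMonoidHom ≤ Cy := by
        rw [hCy]
        rintro _ ⟨x, hx, rfl⟩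
        refine Subgroup.mem_centralizer_singleton_iff.2 ?_
        rw [← hg]
        exact ((Commute.conj_iff g).2 (haB x hx)).eq
      obtain ⟨k, hk⟩ := FixSet.prime_conj (G := ↥Cy) (p := 13) (n := 2 ^ 19 * 3 ^ 13 * 5 ^ 2 * 7 * 11 * 17 * 23)
        (by norm_num) (by rw [hCy, TwentyNine.card_member K hyD]; norm_num) (by norm_num)
        (X := (B.map (MulAut.conj g).toMonoidHom).subgroupOf Cy) (Y := B.subgroupOf Cy)
        (by rw [Nat.card_congr (Subgroup.subgroupOfEquivOfLe hgy).toEquiv,
          Subgroup.card_map_of_injective (MulAut.conj g).injective, hB])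
        (by rw [Nat.card_congr (Subgroup.subgroupOfEquivOfLe hBy).toEquiv, hB])
      refine ⟨(k : G) * g, FixSet.mem_normalizer_of_map (Subgroup.eq_of_le_of_card_ge ?_
        (Subgroup.card_map_of_injective (MulAut.conj _).injective).ge), ?_⟩
      · rintro _ ⟨x, hx, rfl⟩
        have hx' : g * x * g⁻¹ ∈ Cy := hgy ⟨x, hx, rfl⟩
        have h : k * ⟨g * x * g⁻¹, hx'⟩ * k⁻¹ ∈ B.subgroupOf Cy :=
          hk ▸ ⟨⟨_, hx'⟩, Subgroup.mem_subgroupOf.2 ⟨x, hx, rfl⟩, rfl⟩
        rw [Subgroup.mem_subgroupOf] at h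
        show (k : G) * g * x * ((k : G) * g)⁻¹ ∈ B
        rw [show (k : G) * g * x * ((k : G) * g)⁻¹ = (k : G) * (g * x * g⁻¹) * (k : G)⁻¹ by group]
        exact h
      · have hky : Commute (k : G) y := Subgroup.mem_centralizer_singleton_iff.1 ((SetLike.ext_iff.1 hCy _).1 k.2)
        rw [show (k : G) * g * a * ((k : G) * g)⁻¹ = (k : G) * (g * a * g⁻¹) * (k : G)⁻¹ by group, hg, hky.eq,
          mul_inv_cancel_right]
  have h := (H.subgroupOf (Subgroup.normalizer (B : Set G))).card_mul_index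
  rw [Nat.card_congr (Subgroup.subgroupOfEquivOfLe hHN).toEquiv, hcard, hNc] at h
  omega

omit q hB hBK in
/-- All subgroups of order thirteen are conjugate. -/
theorem thirteen_conj {X Y : Subgroup G} (hX : Nat.card X = 13) (hY : Nat.card Y = 13) :
    ∃ g : G, X.map (MulAut.conj g).toMonoidHom = Y :=
  FixSet.prime_conj (p := 13) (n := 2 ^ 22 * 3 ^ 16 * 5 ^ 2 * 7 ^ 3 * 11 * 17 * 23 * 29) (by norm_num)
    (by rw [K.main.2.1]; norm_num) (by norm_num) hX hY

end Cfsg.Lib.Fischer.Relations.Thirteen
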