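import Cfsg.Agent.Lib.Fischer.Relations.TwentyNine.Primes
import Cfsg.Agent.Lib.Fischer.Relations.OrderSeven.Local

/-!
# A subgroup of order thirteen seen from a member it fixes in type M(24)
-/

set_option autoImplicit false
set_option linter.unusedSectionVars false

namespace Cfsg.Lib.Fischer.Relations.Thirteen

open Cfsg Cfsg.Lib.Fischer Equiv
open Cfsg.Lib.Fischer.Relations.FiveNine (exists_map fixed_iff card_preimage_odd)

universe u

theorem perm_three_invol : ∀ σ : Perm (Fin 3), σ * σ = 1 → σ ≠ 1 → ∀ τ : Perm (Fin 3), τ * τ = 1 → τ ≠ 1 →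
    ∃ g : Perm (Fin 3), g * σ * g⁻¹ = τ := by decide +kernel

theorem perm_three_count : (Finset.univ.filter fun σ : Perm (Fin 3) => σ * σ = 1 ∧ σ ≠ 1).card = 3 := by
  decide +kernel

theorem far_two : ∀ f : Fin 73, ((f : ℕ) = 0 ∨ 72 % (f : ℕ) = 0) → (1 + 3 + (f : ℕ)) % 13 = 6 → (f : ℕ) = 2 := by
  decide +kernel

variable {G : Type u} [Group G] [Finite G]

/-- A class of involutions generating the symmetric group of degree three has three members. -/
theorem three_members {S : Set G} (hinv : ∀ s ∈ S, orderOf s = 2)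
    (hcl : ∀ g ∈ Subgroup.closure S, ∀ s ∈ S, g * s * g⁻¹ ∈ S)
    (e : ↥(Subgroup.closure S) ≃* Perm (Fin 3)) : S.ncard = 3 := by
  classical
  have hne : S.Nonempty := by
    rw [Set.nonempty_iff_ne_empty]
    intro h
    have hc : Nat.card ↥(Subgroup.closure S) = Nat.card (Perm (Fin 3)) := Nat.card_congr e.toEquiv
    rw [h, Subgroup.closure_empty, Subgroup.card_bot, Nat.card_perm, Nat.card_fin] at hc
    norm_num [Nat.factorial] at hc
  obtain ⟨s₀, hs₀⟩ := hne
  have hi : ∀ y : ↥(Subgroup.closure S), (y : G) ∈ S → e y * e y = 1 ∧ e y ≠ 1 := fun y hy => by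
    have h2 : orderOf (e y) = 2 := by rw [e.orderOf_eq, ← Subgroup.orderOf_coe]; exact hinv _ hy
    exact ⟨by rw [← pow_two, ← h2, pow_orderOf_eq_one], fun h => by rw [h, orderOf_one] at h2; norm_num at h2⟩
  have hT : (fun s : ↥(Subgroup.closure S) => e s) '' {y | (y : G) ∈ S} =
      ↑(Finset.univ.filter fun σ : Perm (Fin 3) => σ * σ = 1 ∧ σ ≠ 1) := by
    ext σ
    rw [Finset.coe_filter]
    refine ⟨?_, fun hσ => ?_⟩
    · rintro ⟨y, hy, rfl⟩
      exact ⟨Finset.mem_univ _, hi y hy⟩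
    · obtain ⟨g, hg⟩ := perm_three_invol (e ⟨s₀, Subgroup.subset_closure hs₀⟩) (hi _ hs₀).1 (hi _ hs₀).2 σ hσ.2.1 hσ.2.2
      refine ⟨e.symm g * ⟨s₀, Subgroup.subset_closure hs₀⟩ * (e.symm g)⁻¹, hcl _ (e.symm g).2 _ hs₀, ?_⟩
      simp [hg]
  have h1 := congrArg Set.ncard hT
  rw [Set.ncard_image_of_injective _ e.injective, Set.ncard_coe_finset, perm_three_count] at h1
  rw [← h1, ← Set.ncard_image_of_injective _ (Subtype.val_injective (p := (· ∈ Subgroup.closure S)))]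
  congr 1
  ext x
  exact ⟨fun hx => ⟨⟨x, Subgroup.subset_closure hx⟩, hx, rfl⟩, by rintro ⟨y, hy, rfl⟩; exact hy⟩

variable {D : Set G} {d : G} (K : M24Data D d)
include K

/-- Order thirteen at the member. -/
theorem six_at {X : Subgroup G} (hX : Nat.card X = 13) (hXd : X ≤ Subgroup.centralizer ({d} : Set G)) :
    (D ∩ (Subgroup.centralizer (X : Set G) : Set G)).ncard = 6 ∧
      Nat.card ↥(Subgroup.normalizer (X : Set G) ⊓ Subgroup.centralizer ({d} : Set G)) = 936 ∧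
      Nat.card ↥(Subgroup.centralizer (X : Set G) ⊓ Subgroup.centralizer ({d} : Set G)) = 156 := by
  classical
  have : Fact (Nat.Prime 13) := ⟨by norm_num⟩
  have hT := K.trans
  obtain ⟨e, he, hgrp, e3, e2⟩ := TwentyNine.image_hyp K
  obtain ⟨φ, hφ, hker, hc⟩ := exists_map K
  obtain ⟨hY, hN, hC⟩ := card_preimage_odd φ hφ hker (by decide : Odd 13) hX hXd
  obtain ⟨F, f1, -, f3, f4, f5, f6, ⟨ι⟩⟩ := (Cfsg.Agent.S5496.result hgrp K.imgPrim e he e3 e2 K.img).2 _ hY
  obtain ⟨Y, hYdef⟩ : ∃ Y, Y = (X.subgroupOf (Subgroup.centralizer ({d} : Set G))).map φ := ⟨_, rfl⟩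
  rw [← hYdef] at hY hN hC f3 f4 f5 f6 ι
  have hLC : Subgroup.closure (image (perp D d) ∩ (Subgroup.centralizer (SetLike.coe Y) : Set _)) ≤
      Subgroup.centralizer (SetLike.coe Y) := (Subgroup.closure_le _).2 fun s hs => hs.2
  obtain ⟨g1, g2⟩ := FixSet.orders_of_split hY f3 f4 f5 f6 hLC
  rw [Nat.card_congr ι.toEquiv, Nat.card_perm, Nat.card_fin, f1] at g1
  rw [Nat.card_congr ι.toEquiv, Nat.card_perm, Nat.card_fin] at g2
  have hN' : Nat.card ↥(Subgroup.normalizer (X : Set G) ⊓ Subgroup.centralizer ({d} : Set G)) = 936 := by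
    rw [hN, g1]; rfl
  have h3 : (image (perp D d) ∩ (Subgroup.centralizer (SetLike.coe Y) : Set _)).ncard = 3 :=
    three_members (fun s hs => K.imgTrans.set.1 s hs.1)
      (fun g hg s hs => FixSet.fixed_stable (fun u hu => K.imgTrans.conj g u hu)
        (Subgroup.centralizer_le_normalizer _ (hLC hg)) hs) ι
  have hperp : (perp D d ∩ (Subgroup.centralizer (X : Set G) : Set G)).ncard = 3 := by
    rw [← h3]
    refine Set.ncard_congr (fun u hu => bar hu.1) (fun u hu => ⟨bar_mem hu.1,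
      hYdef ▸ (fixed_iff K hc hXd hu.1).1 hu.2⟩) (fun u v hu hv h => bar_inj hT (fun x hx => hx.1) K.nc hu.1 hv.1 h) ?_
    rintro w ⟨hw, hwY⟩
    obtain ⟨u, hu, rfl⟩ := exists_bar hw
    exact ⟨u, ⟨hu, (fixed_iff K hc hXd hu).2 (hYdef ▸ hwY)⟩, rfl⟩
  obtain ⟨H, hH⟩ : ∃ H, H = Subgroup.centralizer ({d} : Set G) := ⟨_, rfl⟩
  have hHc : Nat.card H = 13 * (2 ^ 19 * 3 ^ 13 * 5 ^ 2 * 7 * 11 * 17 * 23) := by
    rw [hH, TwentyNine.card_member K K.mem]
    norm_num
  have hH13 : ¬ 13 ∣ 2 ^ 19 * 3 ^ 13 * 5 ^ 2 * 7 * 11 * 17 * 23 := by norm_num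
  have hmemH : ∀ {k : G}, k ∈ H → k * d * k⁻¹ = d := fun {k} hk => by
    rw [hH] at hk
    rw [Subgroup.mem_centralizer_singleton_iff.1 hk, mul_inv_cancel_right]
  have hfar : (far D d ∩ (Subgroup.centralizer (X : Set G) : Set G)).ncard = 0 ∨
      72 % (far D d ∩ (Subgroup.centralizer (X : Set G) : Set G)).ncard = 0 := by
    rcases Set.eq_empty_or_nonempty (far D d ∩ (Subgroup.centralizer (X : Set G) : Set G)) with h | h
    · exact Or.inl (by rw [h, Set.ncard_empty])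
    · have := FixSet.fixed_dvd (p := 13) (by norm_num) hHc hH13 hX (hH ▸ hXd)
        (fun k hk y hy => (⟨hT.conj k y hy.1, fun h => hy.2 (by rwa [← Commute.conj_iff k, hmemH hk])⟩ :
          k * y * k⁻¹ ∈ far D d))
        (fun a ha y hy => by
          obtain ⟨g, hg, h⟩ := orb_all K.fis K.mem ha.1 hy.1 (fun h => ha.2 h.symm) (fun h => hy.2 h.symm)
          exact ⟨g, hH ▸ Subgroup.mem_centralizer_singleton_iff.2 (commute_of_mem_closure K.fis K.mem hg).eq, h⟩) h
      rw [hH, hN', show 936 = 72 * 13 by norm_num] at this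
      exact Or.inr (Nat.mod_eq_zero_of_dvd (Nat.dvd_of_mul_dvd_mul_right (by norm_num) this))
  obtain ⟨S, hS⟩ : ∃ S, S = D ∩ (Subgroup.centralizer (X : Set G) : Set G) := ⟨_, rfl⟩
  have hsplit := card_split K.mem S (fun x hx => (hS ▸ hx : x ∈ D ∩ _).1)
    (hS ▸ FixSet.mem_fixed.2 ⟨K.mem, fun x hx => Subgroup.mem_centralizer_singleton_iff.1 (hXd hx)⟩)
  have hsub : ∀ O : Set G, O ⊆ D → S ∩ O = O ∩ (Subgroup.centralizer (X : Set G) : Set G) := fun O hO => by
    rw [hS, Set.inter_right_comm, Set.inter_eq_right.2 hO]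
  rw [hsub (perp D d) (fun x hx => hx.1), hsub (far D d) (fun x hx => hx.1), hperp] at hsplit
  have hmod := FixSet.card_fixed_mod (p := 13) (fun g x hx => hT.conj g x hx) (by norm_num) hX
  rw [K.main.1, ← hS, hsplit] at hmod
  have hlt : (far D d ∩ (Subgroup.centralizer (X : Set G) : Set G)).ncard < 73 := by
    rcases hfar with h | h
    · omega
    · exact Nat.lt_succ_of_le (Nat.le_of_dvd (by norm_num) (Nat.dvd_of_mod_eq_zero h))
  generalize (far D d ∩ (Subgroup.centralizer (X : Set G) : Set G)).ncard = f at *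
  have hf2 : f = 2 := far_two ⟨f, hlt⟩ hfar (show (1 + 3 + f) % 13 = 6 by rw [Nat.ModEq] at hmod; omega)
  refine ⟨?_, hN', by rw [hC, g2]; rfl⟩
  rw [← hS, hsplit, hf2]

/-- Order thirteen at any member. -/
theorem six_fixed {X : Subgroup G} (hX : Nat.card X = 13) {a : G} (ha : a ∈ D) (hXa : ∀ x ∈ X, Commute x a) :
    (D ∩ (Subgroup.centralizer (X : Set G) : Set G)).ncard = 6 ∧
      Nat.card ↥(Subgroup.normalizer (X : Set G) ⊓ Subgroup.centralizer ({a} : Set G)) = 936 ∧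
      Nat.card ↥(Subgroup.centralizer (X : Set G) ⊓ Subgroup.centralizer ({a} : Set G)) = 156 := by
  have hT := K.trans
  obtain ⟨g, hg, hle⟩ := FiveNine.exists_move K ha hXa
  have hinj := (MulAut.conj g).injective
  obtain ⟨h1, h2, h3⟩ := six_at K (by rw [Subgroup.card_map_of_injective hinj, hX]) hle
  rw [← hg, ← FixSet.centralizer_singleton_map, ← Subgroup.map_equiv_normalizer_eq X (MulAut.conj g),
    ← Subgroup.map_inf _ _ _ hinj, Subgroup.card_map_of_injective hinj] at h2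
  rw [← hg, ← FixSet.centralizer_singleton_map, ← FixSet.centralizer_map,
    ← Subgroup.map_inf _ _ _ hinj, Subgroup.card_map_of_injective hinj] at h3
  refine ⟨?_, h2, h3⟩
  rw [← h1, ← Set.ncard_image_of_injective (D ∩ (Subgroup.centralizer (X : Set G) : Set G)) hinj]
  congr 1
  ext u
  rw [FixSet.mem_fixed]
  constructor
  · rintro ⟨v, hv, rfl⟩
    exact ⟨hT.conj g v (FixSet.mem_fixed.1 hv).1, FixSet.commute_map_iff.2 (FixSet.mem_fixed.1 hv).2⟩
  · rintro ⟨hu, hfix⟩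
    refine ⟨g⁻¹ * u * g, FixSet.mem_fixed.2 ⟨by simpa using hT.conj g⁻¹ u hu, (FixSet.commute_map_iff (g := g)).1 ?_⟩,
      by simp [mul_assoc]⟩
    rwa [show g * (g⁻¹ * u * g) * g⁻¹ = u by group]

end Cfsg.Lib.Fischer.Relations.Thirteen
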